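import Groth.Prelude.Def_MoreMor
import Groth.Agent.L18.KerReduced
import Groth.Agent.L20.FlatGeneric
import Mathlib.AlgebraicGeometry.Limits
import Mathlib.AlgebraicGeometry.Noetherian
import Mathlib.Topology.KrullDimension

/-!
# Affine stratifications of Noetherian schemes indexed by the dimension
-/

universe u

open CategoryTheory AlgebraicGeometry TopologicalSpace

namespace Groth.L17.Dim

set_option linter.style.haveILetI false
set_option backward.isDefEq.respectTransparency.types false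

variable {X : Scheme.{u}}

/-- The closure of a point, as an irreducible closed set. -/
def cl (x : X) : IrreducibleCloseds X :=
  ⟨closure {x}, isIrreducible_singleton.closure, isClosed_closure⟩

/-- Closures of points of `T` have height less than `k`. -/
def HLT (T : Set X) (k : ℕ) : Prop := ∀ x ∈ T, Order.height (cl x) < (k : ℕ∞)

theorem cl_lt {x y : X} (h : x ⤳ y) (hne : x ≠ y) : cl y < cl x := by
  refine lt_of_le_of_ne (specializes_iff_closure_subset.1 h) fun e => hne ?_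
  refine (h.antisymm (specializes_iff_closure_subset.2 ?_)).eq
  have e' : closure {y} = closure {x} := congrArg (fun c : IrreducibleCloseds X => (c : Set X)) e
  exact e'.ge

theorem HLT.of_specializes {T : Set X} {k : ℕ} (hT : HLT T (k + 1)) {S : Set X}
    (hS : ∀ y ∈ S, ∃ x ∈ T, x ⤳ y ∧ x ≠ y) : HLT S k := by
  intro y hy
  obtain ⟨x, hx, hxy, hne⟩ := hS y hy
  have h1 : Order.height (cl y) + 1 ≤ Order.height (cl x) := Order.height_add_one_le (cl_lt hxy hne)
  have h2 : Order.height (cl y) + 1 < ((k : ℕ∞) + 1) := by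
    refine lt_of_le_of_lt h1 ?_
    exact_mod_cast hT x hx
  exact (ENat.add_lt_add_iff_right (ENat.one_ne_top)).1 h2

theorem HLT.univ {d : ℕ} (hd : topologicalKrullDim X ≤ d) : HLT (Set.univ : Set X) (d + 1) := by
  intro x _
  have h : ((Order.height (cl x) : ℕ∞) : WithBot ℕ∞) ≤ ((d : ℕ∞) : WithBot ℕ∞) :=
    (Order.height_le_krullDim (cl x)).trans hd
  exact lt_of_le_of_lt (WithBot.coe_le_coe.1 h) (by exact_mod_cast Nat.lt_succ_self d)

theorem isEmpty_of_hlt_zero {T : Set X} (hT : HLT T 0) : T = ∅ :=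
  Set.eq_empty_iff_forall_notMem.2 fun x hx => by simpa using hT x hx

/-- An affine stratum that is open and dense in a closed subset of a Noetherian scheme. -/
theorem exists_dense_stratum [IsNoetherian X] (T : Closeds X) :
    ∃ (Z : Scheme.{u}) (ι : Z ⟶ X), IsImmersion ι ∧ IsAffine Z ∧ IsAffineHom ι ∧
      Set.range ι ⊆ (T : Set X) ∧ IsClosed ((T : Set X) \ Set.range ι) ∧
      ∀ y ∈ (T : Set X) \ Set.range ι, ∃ x ∈ (T : Set X), x ⤳ y ∧ x ≠ y := by
  classical
  let I := Scheme.IdealSheafData.vanishingIdeal T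
  let Y := I.subscheme
  let i : Y ⟶ X := I.subschemeι
  have hi : Set.range i = (T : Set X) := by
    rw [Scheme.IdealSheafData.range_subschemeι, Groth.L18.support_vanishingIdeal]
  haveI : IsLocallyNoetherian Y := LocallyOfFiniteType.isLocallyNoetherian i
  haveI : CompactSpace Y := QuasiCompact.compactSpace_of_compactSpace i
  haveI : IsNoetherian Y := {}
  have hG : (genericPoints Y).Finite :=
    genericPoints.finite NoetherianSpace.finite_irreducibleComponents
  obtain ⟨S, hS⟩ := isCompact_univ.elim_finite_subcover (fun W : X.affineOpens => (W.1 : Set X))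
    (fun W => W.1.2) fun x _ => by
      obtain ⟨_, ⟨W, hW, rfl⟩, hxW, -⟩ :=
        X.isBasis_affineOpens.exists_subset_of_mem_open (Set.mem_univ x) isOpen_univ
      exact Set.mem_iUnion.2 ⟨⟨W, hW⟩, hxW⟩
  have hV : ∀ η ∈ genericPoints Y, ∃ V : Y.Opens, η ∈ V ∧ IsAffineOpen V ∧
      (∀ z ∈ V, ∀ ξ ∈ genericPoints Y, ξ ⤳ z → ξ = η) ∧
      ∀ W ∈ S, η ∈ i ⁻¹ᵁ W.1 → V ≤ i ⁻¹ᵁ W.1 := by
    intro η hη
    let C : Set Y := ⋃ ξ ∈ genericPoints Y \ {η}, closure {ξ}
    let D : Set Y := ⋂ W ∈ S.filter (fun W => η ∈ i ⁻¹ᵁ W.1), (i ⁻¹ᵁ W.1 : Set Y)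
    have hC : IsClosed C := (hG.subset Set.sdiff_subset).isClosed_biUnion fun _ _ => isClosed_closure
    have hD : IsOpen D := isOpen_biInter_finset fun W _ => (i ⁻¹ᵁ W.1).2
    have hηC : η ∉ C := fun h => by
      obtain ⟨ξ, hξ, h⟩ := Set.mem_iUnion₂.1 h
      exact hξ.2 ((Groth.L20.mem_genericPoints_iff η).1 hη ξ (specializes_iff_mem_closure.2 h))
    have hηD : η ∈ D := Set.mem_iInter₂.2 fun W hW => (Finset.mem_filter.1 hW).2
    obtain ⟨_, ⟨V, hV, rfl⟩, hηV, hVsub⟩ := Y.isBasis_affineOpens.exists_subset_of_mem_open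
      (⟨hηC, hηD⟩ : η ∈ Cᶜ ∩ D) (hC.isOpen_compl.inter hD)
    refine ⟨V, hηV, hV, fun z hz ξ hξ hξz => ?_, fun W hW hηW z hz => ?_⟩
    · by_contra hne
      exact (hVsub hz).1 (Set.mem_iUnion₂.2 ⟨ξ, ⟨hξ, hne⟩, hξz.mem_closure⟩)
    · exact Set.mem_iInter₂.1 (hVsub hz).2 W (Finset.mem_filter.2 ⟨hW, hηW⟩)
  choose! V hmem haff hgen hle using hV
  let U : Y.Opens := ⨆ η ∈ genericPoints Y, V η
  have hdisj : (genericPoints Y).Pairwise fun η ξ => Disjoint (V η) (V ξ) := by
    intro η hη ξ hξ hne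
    rw [← Opens.coe_disjoint, Set.disjoint_left]
    intro z hz hz'
    obtain ⟨ζ, hζ, hζz⟩ := Groth.L20.exists_genericPoint_specializes z
    exact hne ((hgen η hη z hz ζ hζ hζz).symm.trans (hgen ξ hξ z hz' ζ hζ hζz))
  haveI : IsAffine U.toScheme := IsAffineOpen.biSup_of_disjoint hG haff hdisj
  have hUmem : ∀ η ∈ genericPoints Y, η ∈ U := fun η hη =>
    Opens.mem_iSup.2 ⟨η, Opens.mem_iSup.2 ⟨hη, hmem η hη⟩⟩
  have hr : Set.range (U.ι ≫ i) = i '' (U : Set Y) := by
    rw [Scheme.Hom.comp_base, TopCat.coe_comp, Set.range_comp, Scheme.Opens.range_ι]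
  have hsub : (T : Set X) \ Set.range (U.ι ≫ i) = i '' ((U : Set Y)ᶜ) := by
    rw [hr, ← hi, ← Set.image_univ, ← Set.image_sdiff i.isClosedEmbedding.injective, Set.compl_eq_univ_sdiff]
  refine ⟨U.toScheme, U.ι ≫ i, inferInstance, inferInstance, ?_, ?_, ?_, ?_⟩
  · refine isAffineHom_of_forall_exists_isAffineOpen _ fun x => ?_
    obtain ⟨W, hW, hxW⟩ := Set.mem_iUnion₂.1 (hS (Set.mem_univ x))
    refine ⟨W.1, hxW, W.2, ?_⟩
    rw [Scheme.Hom.comp_preimage, ← U.ι.isAffineOpen_iff_of_isOpenImmersion,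
      Scheme.Hom.image_preimage_eq_opensRange_inf, Scheme.Opens.opensRange_ι]
    have e : U ⊓ i ⁻¹ᵁ W.1 = ⨆ η ∈ {η ∈ genericPoints Y | η ∈ i ⁻¹ᵁ W.1}, V η := by
      apply le_antisymm
      · rintro z ⟨hzU, hzW⟩
        obtain ⟨η, hz⟩ := Opens.mem_iSup.1 hzU
        obtain ⟨hη, hz⟩ := Opens.mem_iSup.1 hz
        obtain ⟨ζ, hζ, hζz⟩ := Groth.L20.exists_genericPoint_specializes z
        obtain rfl := hgen η hη z hz ζ hζ hζz
        exact Opens.mem_iSup.2 ⟨ζ, Opens.mem_iSup.2 ⟨⟨hη, hζz.mem_open (i ⁻¹ᵁ W.1).2 hzW⟩, hz⟩⟩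
      · refine iSup₂_le fun η hη => le_inf ?_ (hle η hη.1 W hW hη.2)
        exact le_iSup₂_of_le η hη.1 le_rfl
    rw [e]
    exact IsAffineOpen.biSup_of_disjoint (hG.subset fun _ h => h.1) (fun η hη => haff η hη.1)
      (hdisj.mono fun _ h => h.1)
  · rw [hr, ← hi]
    exact Set.image_subset_range _ _
  · rw [hsub]
    exact i.isClosedEmbedding.isClosedMap _ U.2.isClosed_compl
  · rw [hsub]
    rintro _ ⟨z, hz, rfl⟩
    obtain ⟨ζ, hζ, hζz⟩ := Groth.L20.exists_genericPoint_specializes z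
    refine ⟨i ζ, hi ▸ ⟨ζ, rfl⟩, hζz.map i.continuous, fun e => hz ?_⟩
    exact i.isClosedEmbedding.injective e ▸ hUmem ζ hζ

/-- An empty stratum. -/
theorem exists_empty_stratum [IsNoetherian X] :
    ∃ (Z : Scheme.{u}) (ι : Z ⟶ X), IsImmersion ι ∧ IsAffine Z ∧ IsAffineHom ι ∧ Set.range ι = ∅ := by
  obtain ⟨Z, ι, h1, h2, h3, h4, -, -⟩ := exists_dense_stratum (⊥ : Closeds X)
  exact ⟨Z, ι, h1, h2, h3, Set.subset_empty_iff.1 (by simpa using h4)⟩

/-- A closed subset whose points have height less than `k` has `k` affine strata. -/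
theorem exists_levels [IsNoetherian X] : ∀ (k : ℕ) (T : Closeds X), HLT (T : Set X) k →
    ∃ s : X → ℕ, (∀ x ∈ T, s x < k) ∧ (∀ i, IsClosed {x : X | x ∈ T ∧ s x ≤ i}) ∧
      ∀ i, ∃ (Z : Scheme.{u}) (ι : Z ⟶ X), IsImmersion ι ∧ IsAffine Z ∧ IsAffineHom ι ∧
        Set.range ι = {x : X | x ∈ T ∧ s x = i} := by
  intro k
  induction k with
  | zero =>
    intro T hT
    have hT' : ∀ x, x ∉ T := fun x hx => by simpa using hT x hx
    refine ⟨fun _ => 0, fun x hx => (hT' x hx).elim, fun i => ?_, fun i => ?_⟩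
    · convert isClosed_empty (X := X)
      exact Set.eq_empty_iff_forall_notMem.2 fun x hx => hT' x hx.1
    · obtain ⟨Z, ι, h1, h2, h3, h4⟩ := exists_empty_stratum (X := X)
      exact ⟨Z, ι, h1, h2, h3, h4.trans (Set.eq_empty_iff_forall_notMem.2 fun x hx => hT' x hx.1).symm⟩
  | succ k ih =>
    intro T hT
    classical
    obtain ⟨Z, ι, h1, h2, h3, hsub, hcl, hsp⟩ := exists_dense_stratum T
    let T' : Closeds X := ⟨(T : Set X) \ Set.range ι, hcl⟩
    obtain ⟨s', hlt, hclo, hst⟩ := ih T' (hT.of_specializes hsp)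
    let s : X → ℕ := fun x => if x ∈ T' then s' x else k
    have hmem : ∀ x, x ∈ T' ↔ x ∈ T ∧ x ∉ Set.range ι := fun x => Iff.rfl
    refine ⟨s, fun x hx => ?_, fun i => ?_, fun i => ?_⟩
    · dsimp only [s]
      split_ifs with h
      · exact (hlt x h).trans (Nat.lt_succ_self k)
      · exact Nat.lt_succ_self k
    · rcases lt_or_ge i k with hik | hik
      · convert hclo i using 1
        ext x
        simp only [Set.mem_ofPred_eq, s]
        split_ifs with h
        · exact ⟨fun hx => ⟨h, hx.2⟩, fun hx => ⟨((hmem x).1 h).1, hx.2⟩⟩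
        · exact ⟨fun hx => absurd hx.2 (not_le.2 hik), fun hx => absurd hx.1 h⟩
      · convert T.isClosed using 1
        ext x
        simp only [Set.mem_ofPred_eq, s]
        split_ifs with h
        · exact ⟨fun hx => hx.1, fun hx => ⟨hx, (hlt x h).le.trans hik⟩⟩
        · exact ⟨fun hx => hx.1, fun hx => ⟨hx, hik⟩⟩
    · rcases eq_or_ne i k with rfl | hik
      · refine ⟨Z, ι, h1, h2, h3, ?_⟩
        ext x
        simp only [Set.mem_ofPred_eq, s]
        split_ifs with h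
        · exact ⟨fun hx => absurd hx ((hmem x).1 h).2, fun hx => absurd hx.2 (hlt x h).ne⟩
        · exact ⟨fun hx => ⟨hsub hx, rfl⟩,
            fun hx => Classical.not_not.1 fun hn => h ((hmem x).2 ⟨hx.1, hn⟩)⟩
      · obtain ⟨Z', ι', g1, g2, g3, g4⟩ := hst i
        refine ⟨Z', ι', g1, g2, g3, g4.trans ?_⟩
        ext x
        simp only [Set.mem_ofPred_eq, s]
        split_ifs with h
        · exact ⟨fun hx => ⟨((hmem x).1 h).1, hx.2⟩, fun hx => ⟨h, hx.2⟩⟩
        · exact ⟨fun hx => absurd hx.1 h, fun hx => absurd hx.2.symm hik⟩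

/-- A Noetherian scheme of dimension at most `d` has an affine stratification with `d + 1` strata. -/
theorem hasAffineStratification_of_dim_le [IsNoetherian X] {d : ℕ} (hd : topologicalKrullDim X ≤ d) :
    MoreMor.HasAffineStratification X d := by
  obtain ⟨s, hlt, hcl, hst⟩ := exists_levels (d + 1) (⊤ : Closeds X)
    (by simpa using HLT.univ hd)
  refine ⟨fun x => ⟨s x, hlt x trivial⟩, fun i => ?_, fun i => ?_⟩
  · convert hcl i.val using 1
    ext x
    exact ⟨fun h => ⟨trivial, h⟩, fun h => h.2⟩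
  · obtain ⟨Z, ι, h1, h2, h3, h4⟩ := hst i.val
    refine ⟨Z, ι, h1, h2, h3, h4.trans ?_⟩
    ext x
    exact ⟨fun h => Fin.ext h.2, fun h => ⟨trivial, congrArg Fin.val h⟩⟩

end Groth.L17.Dim
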